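import Groth.Agent.ARConsLib.Basic
import Groth.Agent.ARLib.Misc
import Groth.Agent.EtShLib.StalkSys
import Groth.Agent.EpsLib.AdicEquiv
import Groth.Agent.EpsLib.AdicEpi

/-! Kernels, cokernels and chains of adic pro-étale sheaves. -/

set_option autoImplicit false
set_option linter.unusedSectionVars false
set_option linter.style.haveILetI false
set_option backward.isDefEq.respectTransparency false
set_option backward.isDefEq.respectTransparency.types false
set_option synthInstance.maxHeartbeats 400000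
set_option maxHeartbeats 1000000

universe u

open CategoryTheory CategoryTheory.Limits AlgebraicGeometry Opposite

namespace Groth.Agent.AdicPLib

open Groth.Agent.ARConsLib ARLib

variable {Λ : Type (u + 1)} [CommRing Λ] [IsNoetherianRing Λ] {I : Ideal Λ}
  {X : Scheme.{u}} [IsNoetherian X] [ProEtS.EpsCont X]

/-- The limit of the pro-étale pullbacks of a system. -/
noncomputable abbrev T (Λ : Type (u + 1)) [CommRing Λ] (X : Scheme.{u}) [ProEtS.EpsCont X] :
    ARSys.PS (EtModW.Mod Λ X) ⥤ EtModW.ModP Λ X :=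
  (Functor.whiskeringRight ℕᵒᵖ (EtModW.Mod Λ X) (EtModW.ModP Λ X)).obj (EtModW.epsPullMod Λ X) ⋙ lim

theorem preservesFiniteLimits_T : PreservesFiniteLimits (T Λ X) := by
  haveI := (Groth.Agent.EpsLib.epsPullMod_exact Λ X).1
  haveI : PreservesFiniteLimits ((Functor.whiskeringRight ℕᵒᵖ (EtModW.Mod Λ X) (EtModW.ModP Λ X)).obj
      (EtModW.epsPullMod Λ X)) := ⟨fun J _ _ => inferInstance⟩
  haveI : PreservesFiniteLimits (lim : (ℕᵒᵖ ⥤ EtModW.ModP Λ X) ⥤ EtModW.ModP Λ X) := inferInstance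
  exact comp_preservesFiniteLimits _ _

theorem isIso_T_map {Y K : ARSys.PS (EtModW.Mod Λ X)} {v : Y ⟶ K} (h : ARSys.IsARIso v) :
    IsIso ((T Λ X).map v) := by
  haveI := (Groth.Agent.EpsLib.epsPullMod_exact Λ X).1
  haveI := (Groth.Agent.EpsLib.epsPullMod_exact Λ X).2
  haveI : (EtModW.epsPullMod Λ X).Additive := Functor.additive_of_preserves_binary_products _
  exact ARLib.isIso_limMap _ (Groth.Agent.EtShLib.isARIso_comp (EtModW.epsPullMod Λ X) h)

theorem epi_T_map (S : ShortComplex (ARSys.PS (EtModW.Mod Λ X))) (hS : S.ShortExact)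
    (hA : ARSys.IsARAdicNoeth I S.X₁) : Epi ((T Λ X).map S.g) := by
  obtain ⟨⟨-, Y, v, hY, hv⟩, -⟩ := hA
  exact Groth.Agent.EpsLib.epi_limMap_of_shortExact (IsNoetherian.noetherian I) S hS ⟨Y, v, hY, hv.1, hv.2⟩

/-- The adic systems with constructible terms. -/
def AC (I : Ideal Λ) (G : ARSys.PS (EtModW.Mod Λ X)) : Prop :=
  ARSys.IsAdic I G ∧ ∀ n : ℕ, EtModW.IsConstructible Λ (G.obj (op n))

theorem exists_map {G H : ARSys.PS (EtModW.Mod Λ X)} (hG : ARSys.IsAdic I G) (hH : ARSys.IsAdic I H)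
    (f : (T Λ X).obj G ⟶ (T Λ X).obj H) : ∃ w : G ⟶ H, (T Λ X).map w = f := by
  obtain ⟨hfull, -⟩ := Groth.Agent.EpsLib.full_faithful_limit Λ (IsNoetherian.noetherian I) X
  obtain ⟨w, hw⟩ := hfull.map_surjective (X := ⟨G, hG⟩) (Y := ⟨H, hH⟩) f
  exact ⟨w.hom, hw⟩

theorem image_arAdicNoeth {G H : ARSys.PS (EtModW.Mod Λ X)} (hG : AC I G) (hH : AC I H) (w : G ⟶ H) :
    ARSys.IsARAdicNoeth I (kernel w) ∧ ARSys.IsARAdicNoeth I (Abelian.image w) := by
  obtain ⟨h₁, h₂⟩ := arAdicNoeth_kernel_cokernel w (arAdicNoeth_of_adic hG.1 hG.2) (arAdicNoeth_of_adic hH.1 hH.2)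
  exact ⟨h₁, (arAdicNoeth_kernel_cokernel (cokernel.π w) (arAdicNoeth_of_adic hH.1 hH.2) h₂).1⟩

theorem epi_T_factorThruImage {G H : ARSys.PS (EtModW.Mod Λ X)} (hG : AC I G) (hH : AC I H) (w : G ⟶ H) :
    Epi ((T Λ X).map (Abelian.factorThruImage w)) :=
  epi_T_map (ShortComplex.mk (kernel.ι w) (Abelian.factorThruImage w)
    (zero_of_comp_mono (Abelian.image.ι w) (by simp)))
    (ShortComplex.ShortExact.mk' (ShortComplex.exact_of_f_is_kernel _ (KernelFork.IsLimit.ofι' _ _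
      fun {W} g hg => ⟨kernel.lift w g (by
        rw [← Abelian.image.fac w, ← Category.assoc]
        exact (congrArg (· ≫ Abelian.image.ι w) hg).trans zero_comp), kernel.lift_ι _ _ _⟩))
      inferInstance inferInstance) (image_arAdicNoeth hG hH w).1

theorem exists_kernel_cokernel {G H : ARSys.PS (EtModW.Mod Λ X)} (hG : AC I G) (hH : AC I H) (w : G ⟶ H) :
    (∃ Y, AC I Y ∧ Nonempty ((T Λ X).obj Y ≅ kernel ((T Λ X).map w))) ∧
      ∃ Y, AC I Y ∧ Nonempty ((T Λ X).obj Y ≅ cokernel ((T Λ X).map w)) := by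
  haveI : PreservesFiniteLimits (T Λ X) := preservesFiniteLimits_T
  obtain ⟨⟨-, Y₁, v₁, hY₁, hc₁, hv₁⟩, ⟨-, Y₂, v₂, hY₂, hc₂, hv₂⟩⟩ :=
    isARAC_kernel_cokernel hG.1 hH.1 hG.2 hH.2 w
  haveI := isIso_T_map hv₁
  haveI := isIso_T_map hv₂
  refine ⟨⟨Y₁, ⟨hY₁, hc₁⟩, ⟨asIso ((T Λ X).map v₁) ≪≫ PreservesKernel.iso (T Λ X) w⟩⟩, Y₂, ⟨hY₂, hc₂⟩, ?_⟩
  have hS : (ShortComplex.mk (Abelian.image.ι w) (cokernel.π w) (kernel.condition _)).ShortExact :=
    ShortComplex.ShortExact.mk' (ShortComplex.exact_of_f_is_kernel _ (kernelIsKernel (cokernel.π w)))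
      inferInstance inferInstance
  haveI : Epi ((T Λ X).map (cokernel.π w)) := epi_T_map _ hS (image_arAdicNoeth hG hH w).2
  haveI := epi_T_factorThruImage hG hH w
  let S' := (ShortComplex.mk (Abelian.image.ι w) (cokernel.π w) (kernel.condition _)).map (T Λ X)
  have hS' : S'.ShortExact := ShortComplex.ShortExact.mk'
    (hS.exact.map_of_mono_of_preservesKernel (T Λ X) inferInstance inferInstance)
    (inferInstanceAs (Mono ((T Λ X).map (Abelian.image.ι w)))) ‹_›
  exact ⟨asIso ((T Λ X).map v₂) ≪≫ (((cokernelIsCokernel S'.f).coconePointUniqueUpToIso hS'.gIsCokernel).symm :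
      (T Λ X).obj (cokernel w) ≅ cokernel ((T Λ X).map (Abelian.image.ι w))) ≪≫
    (cokernelEpiComp ((T Λ X).map (Abelian.factorThruImage w)) ((T Λ X).map (Abelian.image.ι w))).symm ≪≫
    cokernelIsoOfEq (by rw [← Functor.map_comp, Abelian.image.fac])⟩

theorem isAdicP_kernel_cokernel {F G : EtModW.ModP Λ X} {GF GG : ARSys.PS (EtModW.Mod Λ X)}
    (hF : AC I GF) (hG : AC I GG) (eF : (T Λ X).obj GF ≅ F) (eG : (T Λ X).obj GG ≅ G) (w : F ⟶ G) :
    (∃ Y, AC I Y ∧ Nonempty ((T Λ X).obj Y ≅ kernel w)) ∧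
      ∃ Y, AC I Y ∧ Nonempty ((T Λ X).obj Y ≅ cokernel w) := by
  obtain ⟨w', hw'⟩ := exists_map hF.1 hG.1 (eF.hom ≫ w ≫ eG.inv)
  obtain ⟨⟨Y₁, h₁, ⟨e₁⟩⟩, Y₂, h₂, ⟨e₂⟩⟩ := exists_kernel_cokernel hF hG w'
  have sq : (T Λ X).map w' ≫ eG.hom = eF.hom ≫ w := by rw [hw']; simp
  exact ⟨⟨Y₁, h₁, ⟨e₁ ≪≫ kernel.mapIso _ _ eF eG sq⟩⟩, Y₂, h₂, ⟨e₂ ≪≫ cokernel.mapIso _ _ eF eG sq⟩⟩

theorem chain_stabilizes {F : EtModW.ModP Λ X} {GF : ARSys.PS (EtModW.Mod Λ X)} (hF : AC I GF)
    (eF : (T Λ X).obj GF ≅ F) (Z : ℕ →o Subobject F)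
    (hZ : ∀ k, ∃ Y, AC I Y ∧ Nonempty ((T Λ X).obj Y ≅ (Subobject.underlying.obj (Z k) : EtModW.ModP Λ X))) :
    ∃ k₀ : ℕ, ∀ k : ℕ, k₀ ≤ k → Z k = Z k₀ := by
  haveI : PreservesFiniteLimits (T Λ X) := preservesFiniteLimits_T
  choose Y hY e using hZ
  choose u hu using fun k => exists_map (hY k).1 hF.1 ((e k).some.hom ≫ (Z k).arrow ≫ eF.inv)
  choose f hf using fun k => exists_map (hY k).1 (hY (k + 1)).1
    ((e k).some.hom ≫ Subobject.ofLE _ _ (Z.monotone (Nat.le_succ k)) ≫ (e (k + 1)).some.inv)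
  obtain ⟨-, hfaith⟩ := Groth.Agent.EpsLib.full_faithful_limit Λ (IsNoetherian.noetherian I) X
  have huf : ∀ k, f k ≫ u (k + 1) = u k := fun k => by
    have h1 : (T Λ X).map (f k ≫ u (k + 1)) = (T Λ X).map (u k) := by
      rw [Functor.map_comp, hf, hu, hu]
      simp only [Category.assoc, Iso.inv_hom_id_assoc, Subobject.ofLE_arrow_assoc]
    exact congrArg InducedCategory.Hom.hom (hfaith.map_injective (X := ⟨Y k, (hY k).1⟩) (Y := ⟨GF, hF.1⟩)
      (a₁ := ObjectProperty.homMk (f k ≫ u (k + 1))) (a₂ := ObjectProperty.homMk (u k)) h1)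
  let S : ℕ → Subobject GF := fun k => Subobject.mk (Abelian.image.ι (u k))
  have hmono : Monotone S := monotone_nat_of_le_succ fun k => by
    have hz : Abelian.image.ι (u k) ≫ cokernel.π (u (k + 1)) = 0 := by
      rw [← cancel_epi (Abelian.factorThruImage (u k)), ← Category.assoc, Abelian.image.fac, ← huf k, Category.assoc,
        cokernel.condition, comp_zero, comp_zero]
    exact Subobject.mk_le_mk_of_comm (kernel.lift _ _ hz) (kernel.lift_ι _ _ _)
  have hS : ∀ k, IsARAC I (Subobject.underlying.obj (S k) : ARSys.PS (EtModW.Mod Λ X)) := fun k => by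
    let i := Subobject.underlyingIso (Abelian.image.ι (u k))
    have hc : ∀ n, Groth.Agent.EtShLib.IsCons (A := ModuleCat.{u + 1} Λ) Groth.Agent.EtShLib.FinMP
        ((Abelian.image (u k)).obj (op n)) := fun n => by
      haveI := app_mono (Abelian.image.ι (u k)) n
      exact Groth.Agent.EtShLib.consMod_of_mono ((Abelian.image.ι (u k)).app (op n))
        ((Groth.Agent.EtShLib.isConstructibleMod_iff _).1 (hF.2 n))
    obtain ⟨hk, V, v, hV, hVc, hv⟩ := isARAC_of_arAdicNoeth (image_arAdicNoeth (hY k) hF (u k)).2 hc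
    refine ⟨termKilled_of_inj (u := (S k).arrow) (fun n => haveI := app_mono (S k).arrow n; inj _) hF.1.1,
      V, v ≫ i.inv, hV, hVc, ?_⟩
    obtain ⟨r, hr⟩ := (arIso_iff v).1 hv
    refine (arIso_iff _).2 ⟨r + 0, hr.comp ⟨fun n m h _ a ha => ?_, fun n m h _ b => ?_⟩⟩
    · haveI := app_mono i.inv m
      rw [inj (i.inv.app (op m)) (ha.trans (map_zero _).symm), map_zero]
    · haveI := app_epi i.inv n
      exact surj _ _
  obtain ⟨k₀, hk₀⟩ := arIso_chain hF.1 hF.2 ⟨S, hmono⟩ hS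
  have hstep : ∀ k, k₀ ≤ k → Z (k + 1) ≤ Z k := fun k hk => by
    let p : ∀ j, Y j ⟶ (Subobject.underlying.obj (S j) : ARSys.PS (EtModW.Mod Λ X)) := fun j =>
      Abelian.factorThruImage (u j) ≫ (Subobject.underlyingIso (Abelian.image.ι (u j))).inv
    have hp : ∀ j, p j ≫ (S j).arrow = u j := fun j => by
      simp only [p, S, Category.assoc, Subobject.underlyingIso_arrow, Abelian.image.fac]
    have hpi : ∀ j, IsIso ((T Λ X).map (p j)) := fun j => by
      haveI : Mono ((T Λ X).map (u j)) := by rw [hu]; infer_instance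
      haveI : Mono ((T Λ X).map (p j) ≫ (T Λ X).map (S j).arrow) := by rw [← Functor.map_comp, hp]; infer_instance
      haveI : Mono ((T Λ X).map (p j)) := mono_of_mono _ ((T Λ X).map (S j).arrow)
      haveI := epi_T_factorThruImage (hY j) hF (u j)
      haveI : Epi ((T Λ X).map (p j)) := by rw [Functor.map_comp]; exact epi_comp _ _
      exact isIso_of_mono_of_epi _
    haveI := hpi k
    haveI := hpi (k + 1)
    haveI : IsIso ((T Λ X).map (Subobject.ofLE (S k) (S (k + 1)) (hmono (Nat.le_succ k)))) :=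
      isIso_T_map (hk₀ k hk)
    have hfp : f k ≫ p (k + 1) = p k ≫ Subobject.ofLE (S k) (S (k + 1)) (hmono (Nat.le_succ k)) := by
      refine (cancel_mono (S (k + 1)).arrow).1 ?_
      exact (Category.assoc _ _ _).trans ((congrArg (f k ≫ ·) (hp (k + 1))).trans ((huf k).trans ((hp k).symm.trans
        ((congrArg (p k ≫ ·) (Subobject.ofLE_arrow _).symm).trans (Category.assoc _ _ _).symm))))
    haveI : IsIso ((T Λ X).map (f k) ≫ (T Λ X).map (p (k + 1))) := by
      rw [← Functor.map_comp, hfp, Functor.map_comp]; infer_instance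
    haveI : IsIso ((T Λ X).map (f k)) := IsIso.of_isIso_comp_right _ ((T Λ X).map (p (k + 1)))
    let j := Subobject.ofLE _ _ (Z.monotone (Nat.le_succ k))
    haveI : IsIso j := by
      have : j = (e k).some.inv ≫ (T Λ X).map (f k) ≫ (e (k + 1)).some.hom := by rw [hf]; simp [j]
      rw [this]; infer_instance
    exact Subobject.le_of_comm (inv j) (by rw [IsIso.inv_comp_eq, Subobject.ofLE_arrow])
  refine ⟨k₀, fun k hk => ?_⟩
  induction k, hk using Nat.le_induction with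
  | base => rfl
  | succ k hk ih => exact (le_antisymm (hstep k hk) (Z.monotone (Nat.le_succ k))).trans ih

end Groth.Agent.AdicPLib
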