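import Groth.Agent.S14013
import Groth.Agent.S14014
import Groth.Agent.S14019
import Groth.Agent.ARLib.Misc
import Groth.Agent.ARLib.Cat

/-! Extensions of adic pro-étale sheaves for a principal ideal. -/

set_option autoImplicit false
set_option linter.unusedSectionVars false
set_option linter.style.haveILetI false
set_option backward.isDefEq.respectTransparency false
set_option backward.isDefEq.respectTransparency.types false
set_option synthInstance.maxHeartbeats 400000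
set_option maxHeartbeats 1000000

universe w v u

open CategoryTheory CategoryTheory.Limits AlgebraicGeometry Opposite

namespace Groth.Agent.AdicPLib

open ARLib

section General

variable {C : Type u} [Category.{v} C] [Abelian C] {A : Type w} [CommRing A] [Linear A C]

theorem exists_smul_of_mem_IM {c : A} {X : C} {x : El X} (hx : x ∈ IM (Ideal.span {c}) X) :
    ∃ y, ap (c • 𝟙 X) y = x := by
  refine exists_of_cokernel_π _ x (hx _ _ fun a ha => ?_)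
  obtain ⟨d, rfl⟩ := Ideal.mem_span_singleton'.1 ha
  rw [← smul_smul, ← Category.id_comp (cokernel.π (c • 𝟙 X)), ← Linear.smul_comp, ← Linear.smul_comp]
  rw [Linear.smul_comp, cokernel.condition, smul_zero]

theorem ap_smul_comm {X Y : C} (f : X ⟶ Y) (a : A) (x : El X) :
    ap f (ap (a • 𝟙 X) x) = ap (a • 𝟙 Y) (ap f x) := by
  rw [← ap_comp, ← ap_comp, Linear.smul_comp, Category.id_comp, Linear.comp_smul, Category.comp_id]

theorem ap_smul_mul {X : C} (a b : A) (x : El X) :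
    ap (a • 𝟙 X) (ap (b • 𝟙 X) x) = ap ((b * a) • 𝟙 X) x := by
  rw [← ap_comp, Linear.smul_comp, Category.id_comp, smul_smul]

theorem ap_smul_killed {c : A} {X Q : C} {p : X ⟶ Q} {J : Ideal A} (hQ : ARSys.KilledBy J Q) (hc : c ∈ J)
    (x : El X) : ap p (ap (c • 𝟙 X) x) = 0 := by
  rw [ap_smul_comm, hQ c hc, ap_zero]

theorem exists_delta {c : A} {S : ShortComplex C} (hS : S.ShortExact) {Q₁ Q₂ : C} {p₁ : S.X₁ ⟶ Q₁}
    {p₂ : S.X₂ ⟶ Q₂} (h₁ : ARSys.IsQuot (Ideal.span {c}) p₁) (h₂ : ARSys.IsQuot (Ideal.span {c}) p₂)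
    (φ : Q₁ ⟶ Q₂) (hφ : p₁ ≫ φ = S.f ≫ p₂) :
    ∃ δ : kernel (c • 𝟙 S.X₃) ⟶ Q₁, (∀ k, ap φ (ap δ k) = 0) ∧ ∀ x, ap φ x = 0 → ∃ k, ap δ k = x := by
  haveI := hS.mono_f
  haveI := hS.epi_g
  let G' := kernel (S.g ≫ (c • 𝟙 S.X₃))
  let κ : G' ⟶ S.X₂ := kernel.ι _
  let e : G' ⟶ kernel (c • 𝟙 S.X₃) := kernel.lift _ (κ ≫ S.g) (by rw [Category.assoc]; exact kernel.condition _)
  have he : ∀ z, ap (kernel.ι (c • 𝟙 S.X₃)) (ap e z) = ap S.g (ap κ z) := fun z => by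
    rw [← ap_comp, kernel.lift_ι, ap_comp]
  haveI : Epi e := (epi_iff e).2 fun k => by
    obtain ⟨x, hx⟩ := surj S.g (ap (kernel.ι (c • 𝟙 S.X₃)) k)
    obtain ⟨z, rfl⟩ := exists_kernel_ι (S.g ≫ (c • 𝟙 S.X₃)) x (by rw [ap_comp, hx, kernel_ι_ap])
    exact ⟨z, inj (kernel.ι (c • 𝟙 S.X₃)) (by rw [he, hx])⟩
  obtain ⟨l, hl⟩ := KernelFork.IsLimit.lift' hS.fIsKernel (κ ≫ (c • 𝟙 S.X₂)) (by
    rw [Category.assoc, Linear.smul_comp, Category.id_comp,
      show c • S.g = S.g ≫ (c • 𝟙 S.X₃) by rw [Linear.comp_smul, Category.comp_id]]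
    exact kernel.condition _)
  have hl' : ∀ z, ap S.f (ap l z) = ap (c • 𝟙 S.X₂) (ap κ z) := fun z =>
    (ap_comp _ _ z).symm.trans ((congrArg (fun t => ap t z) hl).trans (ap_comp _ _ z))
  have hk₁ := ((isQuot_iff _).1 h₁).1
  obtain ⟨δ, hδ⟩ := exists_factor e (l ≫ p₁) fun z hz => by
    have h0 : ap S.g (ap κ z) = 0 := by rw [← he, hz, map_zero]
    obtain ⟨b, hb⟩ := (exact_iff S).1 hS.exact _ h0
    have hlb : ap l z = ap (c • 𝟙 S.X₁) b := inj S.f (by rw [hl', ← hb, ap_smul_comm])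
    rw [ap_comp, hlb]
    exact ap_smul_killed hk₁ (Ideal.mem_span_singleton_self c) b
  have hδ' : ∀ z, ap δ (ap e z) = ap p₁ (ap l z) := fun z =>
    (ap_comp e δ z).symm.trans ((congrArg (fun t => ap t z) hδ).trans (ap_comp _ _ z))
  refine ⟨δ, fun k => ?_, fun x hx => ?_⟩
  · obtain ⟨z, rfl⟩ := surj e k
    rw [hδ', ← ap_comp, hφ, ap_comp, hl']
    exact ap_smul_killed ((isQuot_iff _).1 h₂).1 (Ideal.mem_span_singleton_self c) _
  · obtain ⟨b, rfl⟩ := ((isQuot_iff _).1 h₁).2.1 x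
    rw [← ap_comp, hφ, ap_comp] at hx
    obtain ⟨y, hy⟩ := exists_smul_of_mem_IM (((isQuot_iff _).1 h₂).2.2 _ hx)
    have h0 : ap (c • 𝟙 S.X₃) (ap S.g y) = 0 := by
      rw [← ap_smul_comm, hy, ← ap_comp, S.zero, ap_zero]
    obtain ⟨z, hz⟩ := exists_kernel_ι (S.g ≫ (c • 𝟙 S.X₃)) y (by rw [ap_comp, h0])
    refine ⟨ap e z, ?_⟩
    rw [hδ']
    refine congrArg (ap p₁) (inj S.f ?_)
    rw [hl', show ap κ z = y from hz, hy]

end General

variable {Λ : Type (u + 1)} [CommRing Λ] [IsNoetherianRing Λ] {X : Scheme.{u}} [IsNoetherian X]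
  [ProEtS.EpsCont X]

/-- Constructible sheaves on the pro-étale site. -/
def CP (Λ : Type (u + 1)) [CommRing Λ] (X : Scheme.{u}) [ProEtS.EpsCont X] : ObjectProperty (EtModW.ModP Λ X) :=
  fun F => ∃ E : EtModW.Mod Λ X, EtModW.IsConstructible Λ E ∧ Nonempty ((EtModW.epsPullMod Λ X).obj E ≅ F)

/-- Adic pro-étale sheaves with constructible members. -/
def IsP (I : Ideal Λ) (F : EtModW.ModP Λ X) : Prop :=
  ∃ (Q : ℕᵒᵖ ⥤ EtModW.ModP Λ X) (p : (Functor.const ℕᵒᵖ).obj F ⟶ Q),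
    (∀ n : ℕ, ARSys.IsQuot (I ^ (n + 1)) (p.app (op n))) ∧
    (∀ n : ℕ, CP Λ X (Q.obj (op n))) ∧
    IsIso (limit.lift Q (Cone.mk F p))

theorem cp_kernel_smul {I : Ideal Λ} {H : EtModW.ModP Λ X} (hH : IsP I H) (c : Λ) (k : ℕ)
    (hck : ∀ d ∈ I ^ k, ∃ e, d = e * c) : CP Λ X (kernel (c • 𝟙 H)) := by
  obtain ⟨Q, p, hp, hc, -⟩ := (Groth.Agent.S14013.result Λ I X H H hH hH (c • 𝟙 H)).1
  have hK : ARSys.KilledBy (I ^ (k + 1)) (kernel (c • 𝟙 H)) := fun d hd => by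
    obtain ⟨e, rfl⟩ := hck d (Ideal.pow_le_pow_right (Nat.le_succ k) hd)
    rw [← cancel_mono (kernel.ι (c • 𝟙 H)), zero_comp, Linear.smul_comp, Category.id_comp,
      ← smul_smul, show c • kernel.ι (c • 𝟙 H) = kernel.ι (c • 𝟙 H) ≫ (c • 𝟙 H) by
        rw [Linear.comp_smul, Category.comp_id], kernel.condition, smul_zero]
  obtain ⟨ψ, hψ, -⟩ := (hp k).2 _ (𝟙 _) (homKilled_of_killed _ hK)
  haveI : Epi (p.app (op k)) := (epi_iff _).2 ((isQuot_iff _).1 (hp k)).2.1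
  haveI : IsSplitMono (p.app (op k)) := ⟨⟨{ retraction := ψ, id := hψ }⟩⟩
  haveI := isIso_of_mono_of_epi (p.app (op k))
  obtain ⟨E, hE, ⟨i⟩⟩ := hc k
  exact ⟨E, hE, ⟨i ≪≫ (asIso (p.app (op k))).symm⟩⟩

theorem exists_torsion_bound {I : Ideal Λ} {H : EtModW.ModP Λ X} (hH : IsP I H) (a : Λ) :
    ∃ N, ∀ j, N ≤ j → ∀ z : El H, ap ((a ^ j) • 𝟙 H) z = 0 → ap ((a ^ N) • 𝟙 H) z = 0 := by
  let Z : ℕ →o Subobject H := ⟨fun k => kernelSubobject ((a ^ k) • 𝟙 H), monotone_nat_of_le_succ fun k => by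
    rw [le_iff_rg, rg_kernel, rg_kernel]
    intro z (hz : ap _ z = 0)
    show ap ((a ^ (k + 1)) • 𝟙 H) z = 0
    rw [pow_succ, ← ap_smul_mul, hz, map_zero]⟩
  obtain ⟨N, hN⟩ := Groth.Agent.S14014.result Λ I X H hH Z fun k => by
    obtain ⟨Q, p, hp, hc, hl⟩ := (Groth.Agent.S14013.result Λ I X H H hH hH ((a ^ k) • 𝟙 H)).1
    let e : (Subobject.underlying.obj (Z k) : EtModW.ModP Λ X) ≅ kernel ((a ^ k) • 𝟙 H) := kernelSubobjectIso _
    refine ⟨Q, (Functor.const ℕᵒᵖ).map e.hom ≫ p, fun n => ⟨(hp n).1, fun Y φ hφ => ?_⟩, hc, ?_⟩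
    · obtain ⟨ψ, hψ, hu⟩ := (hp n).2 Y (e.inv ≫ φ) fun d hd => by rw [← Linear.comp_smul, hφ d hd, comp_zero]
      refine ⟨ψ, ?_, fun ψ' hψ' => hu ψ' ?_⟩
      · show (e.hom ≫ p.app (op n)) ≫ ψ = φ
        rw [Category.assoc, hψ, Iso.hom_inv_id_assoc]
      · show p.app (op n) ≫ ψ' = _
        rw [← hψ']
        show _ = e.inv ≫ (e.hom ≫ p.app (op n)) ≫ ψ'
        rw [Category.assoc, Iso.inv_hom_id_assoc]
    · haveI := hl
      have : limit.lift Q (Cone.mk _ ((Functor.const ℕᵒᵖ).map e.hom ≫ p)) = e.hom ≫ limit.lift Q (Cone.mk _ p) :=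
        limit.hom_ext fun j => by simp
      rw [this]; infer_instance
  refine ⟨N, fun j hj z hz => ?_⟩
  have h : z ∈ rg (kernelSubobject ((a ^ j) • 𝟙 H)) := by rw [rg_kernel]; exact hz
  rw [show kernelSubobject ((a ^ j) • 𝟙 H) = kernelSubobject ((a ^ N) • 𝟙 H) from hN j hj, rg_kernel] at h
  exact h

theorem exists_tower_map {I : Ideal Λ} {F G : EtModW.ModP Λ X} {Q R : ℕᵒᵖ ⥤ EtModW.ModP Λ X}
    (p : (Functor.const ℕᵒᵖ).obj F ⟶ Q) (q : (Functor.const ℕᵒᵖ).obj G ⟶ R)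
    (hp : ∀ n : ℕ, ARSys.IsQuot (I ^ (n + 1)) (p.app (op n)))
    (hq : ∀ n : ℕ, ARSys.IsQuot (I ^ (n + 1)) (q.app (op n))) (f : F ⟶ G) :
    ∃ φ : Q ⟶ R, p ≫ φ = (Functor.const ℕᵒᵖ).map f ≫ q := by
  choose φ hφ _ using fun n => (hp n).2 _ (f ≫ q.app (op n)) (homKilled_of_killed _ (hq n).1)
  refine ⟨{ app := fun i => φ i.unop, naturality := fun i j k => ?_ },
    NatTrans.ext (funext fun i => hφ i.unop)⟩
  haveI : Epi (p.app i) := (epi_iff _).2 ((isQuot_iff _).1 (hp i.unop)).2.1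
  have h1 := p.naturality k
  have h2 := q.naturality k
  simp only [Functor.const_obj_map, Category.id_comp] at h1 h2
  rw [← cancel_epi (p.app i), ← Category.assoc, ← Category.assoc]
  show (p.app i ≫ Q.map k) ≫ φ j.unop = (p.app (op i.unop) ≫ φ i.unop) ≫ R.map k
  rw [← h1, hφ i.unop, Category.assoc]
  exact (hφ j.unop).trans (congrArg (f ≫ ·) h2)

theorem isP_extension (a : Λ) {S : ShortComplex (EtModW.ModP Λ X)} (hS : S.ShortExact)
    (h₁ : IsP (Ideal.span {a}) S.X₁) (h₃ : IsP (Ideal.span {a}) S.X₃) : IsP (Ideal.span {a}) S.X₂ := by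
  haveI := hS.mono_f
  haveI := hS.epi_g
  haveI : WSerre.IsWeakSerre (CP Λ X) := Groth.Agent.S14019.result Λ X
  obtain ⟨N, hN⟩ := exists_torsion_bound h₃ a
  have h3' := h₃
  obtain ⟨Q₁, p₁, hp₁, hc₁, hl₁⟩ := h₁
  obtain ⟨Q₃, p₃, hp₃, hc₃, hl₃⟩ := h₃
  have hqC : ∀ k, HQ (EtModW.ModP Λ X) (Ideal.span {a} ^ k) := hq_pow (Or.inl (IsNoetherian.noetherian _))
  obtain ⟨Q₂, p₂, hp₂⟩ := exists_quot_system hqC ((Functor.const ℕᵒᵖ).obj S.X₂)
  obtain ⟨φ, hφ⟩ := exists_tower_map p₁ p₂ hp₁ hp₂ S.f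
  obtain ⟨ψ, hψ⟩ := exists_tower_map p₂ p₃ hp₂ hp₃ S.g
  have hφa : ∀ n x, ap (φ.app (op n)) (ap (p₁.app (op n)) x) = ap (p₂.app (op n)) (ap S.f x) := fun n x => by
    refine (ap_comp _ _ x).symm.trans ((congrArg (fun t => ap t x) (NatTrans.congr_app hφ (op n))).trans ?_)
    exact ap_comp S.f (p₂.app (op n)) x
  have hψa : ∀ n x, ap (ψ.app (op n)) (ap (p₂.app (op n)) x) = ap (p₃.app (op n)) (ap S.g x) := fun n x => by
    refine (ap_comp _ _ x).symm.trans ((congrArg (fun t => ap t x) (NatTrans.congr_app hψ (op n))).trans ?_)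
    exact ap_comp S.g (p₃.app (op n)) x
  have hφψ : ∀ n y, ap (ψ.app (op n)) (ap (φ.app (op n)) y) = 0 := fun n y => by
    obtain ⟨x, rfl⟩ := ((isQuot_iff _).1 (hp₁ n)).2.1 y
    rw [hφa, hψa, ← ap_comp S.f, S.zero, ap_zero, map_zero]
  have hex : ∀ n y, ap (ψ.app (op n)) y = 0 → ∃ x, ap (φ.app (op n)) x = y := fun n y hy => by
    obtain ⟨g, rfl⟩ : ∃ g : El S.X₂, ap (p₂.app (op n)) g = y := ((isQuot_iff _).1 (hp₂ n)).2.1 y
    rw [hψa] at hy
    obtain ⟨d, hd, hde⟩ := IM_lift (hqC _) S.g (surj S.g) (((isQuot_iff _).1 (hp₃ n)).2.2 _ hy)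
    obtain ⟨b, hb⟩ := (exact_iff S).1 hS.exact (g - d) (by rw [map_sub, hde, sub_self])
    refine ⟨ap (p₁.app (op n)) b, ?_⟩
    rw [hφa, hb, map_sub]
    exact sub_eq_self.2 (killed_IM ((isQuot_iff _).1 (hp₂ n)).1 (IM_map _ hd))
  have hψs : ∀ n, Function.Surjective (ap (ψ.app (op n))) := fun n y => by
    obtain ⟨h, rfl⟩ := ((isQuot_iff _).1 (hp₃ n)).2.1 y
    obtain ⟨g, rfl⟩ := surj S.g h
    exact ⟨_, hψa n g⟩
  have hnull : ∀ (n m : ℕ) (h : n ≤ m), n + N ≤ m → ∀ x, ap (φ.app (op m)) x = 0 → res Q₁ h x = 0 := by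
    intro n m h hm x hx
    obtain ⟨b, rfl⟩ := ((isQuot_iff _).1 (hp₁ m)).2.1 x
    rw [hφa] at hx
    have hmem := ((isQuot_iff _).1 (hp₂ m)).2.2 _ hx
    rw [Ideal.span_singleton_pow] at hmem
    obtain ⟨y, hy⟩ : ∃ y : El S.X₂, ap ((a ^ (m + 1)) • 𝟙 S.X₂) y = ap S.f b := exists_smul_of_mem_IM hmem
    have h0 : ap ((a ^ (m + 1)) • 𝟙 S.X₃) (ap S.g y) = 0 := by
      rw [← ap_smul_comm, hy, ← ap_comp S.f, S.zero, ap_zero]
    have h1 := hN (m + 1) (by omega) _ h0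
    rw [← ap_smul_comm] at h1
    obtain ⟨d, hd⟩ := (exact_iff S).1 hS.exact _ h1
    have hb : b = ap ((a ^ (m + 1 - N)) • 𝟙 S.X₁) d := inj S.f (by
      rw [ap_smul_comm, hd, ap_smul_mul, ← pow_add, show N + (m + 1 - N) = m + 1 by omega, hy])
    have hnat : res Q₁ h (ap (p₁.app (op m)) b) = ap (p₁.app (op n)) b :=
      ((ap_comp _ _ b).symm.trans (congrArg (fun t => ap t b) (p₁.naturality (homOfLE h).op).symm)).trans
        (congrArg (fun t => ap t b) (Category.id_comp (p₁.app (op n))))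
    rw [hnat, hb]
    refine ap_smul_killed (hp₁ n).1 ?_ d
    exact Ideal.pow_le_pow_right (show n + 1 ≤ m + 1 - N by omega) (Ideal.pow_mem_pow (Ideal.mem_span_singleton_self a) _)
  refine ⟨Q₂, p₂, hp₂, fun n => ?_, ?_⟩
  · have hp₁' := hp₁ n
    have hp₂' := hp₂ n
    rw [Ideal.span_singleton_pow] at hp₁' hp₂'
    obtain ⟨δ, hδ1, hδ2⟩ := exists_delta hS hp₁' hp₂' (φ.app (op n)) (NatTrans.congr_app hφ (op n))
    have hcK : CP Λ X (kernel ((a ^ (n + 1)) • 𝟙 S.X₃)) := cp_kernel_smul h3' _ (n + 1) fun d hd => by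
      rw [Ideal.span_singleton_pow, Ideal.mem_span_singleton'] at hd
      obtain ⟨e, he⟩ := hd
      exact ⟨e, he.symm⟩
    have hcC : CP Λ X (cokernel δ) :=
      (CP Λ X).prop_cokernel δ hcK (hc₁ n)
    let s := cokernel.desc δ (φ.app (op n)) (eq_zero fun k => (ap_comp _ _ k).trans (hδ1 k))
    have hs : ∀ x, ap s (ap (cokernel.π δ) x) = ap (φ.app (op n)) x := fun x => by
      rw [← ap_comp, cokernel.π_desc]
    haveI : Mono s := (mono_iff s).2 <| (injective_iff_map_eq_zero _).2 fun z hz => by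
      obtain ⟨x, rfl⟩ := surj (cokernel.π δ) z
      rw [hs] at hz
      obtain ⟨k, rfl⟩ := hδ2 x hz
      exact cokernel_π_ap δ k
    haveI : Epi (ψ.app (op n)) := (epi_iff _).2 (hψs n)
    have hz : s ≫ ψ.app (op n) = 0 := eq_zero fun z => by
      obtain ⟨x, rfl⟩ := surj (cokernel.π δ) z
      rw [ap_comp, hs, hφψ]
    exact (CP Λ X).prop_X₂_of_shortExact (S := ShortComplex.mk s (ψ.app (op n)) hz)
      (ShortComplex.ShortExact.mk' ((exact_iff _).2 fun y hy => by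
        obtain ⟨x, hx⟩ := hex n y hy
        exact ⟨ap (cokernel.π δ) x, (hs x).trans hx⟩) inferInstance inferInstance) hcC (hc₃ n)
  · haveI := hl₁
    haveI := hl₃
    have hφψ0 : φ ≫ ψ = 0 := NatTrans.ext (funext fun i => eq_zero fun y => by
      rw [NatTrans.comp_app, ap_comp]; exact hφψ i.unop y)
    let e := kernel.lift ψ φ hφψ0
    have he : ∀ n x, ap ((kernel.ι ψ).app (op n)) (ap (e.app (op n)) x) = ap (φ.app (op n)) x := fun n x => by
      rw [← ap_comp, ← NatTrans.comp_app, kernel.lift_ι]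
    have hiso : ARSys.IsARIso e := (arIso_iff e).2 ⟨N, fun n m h hm x hx => hnull n m h hm x (by
      rw [← he, hx, map_zero]), fun n m h _ b => by
      haveI := app_mono (kernel.ι ψ) n
      obtain ⟨x, hx⟩ := hex n (ap ((kernel.ι ψ).app (op n)) (res (kernel ψ) h b)) (by
        rw [← ap_comp, ← NatTrans.comp_app, kernel.condition]; exact ap_zero _)
      exact ⟨x, inj ((kernel.ι ψ).app (op n)) ((he n x).trans hx)⟩⟩
    haveI := ARLib.isIso_limMap e hiso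
    let L : (ℕᵒᵖ ⥤ EtModW.ModP Λ X) ⥤ EtModW.ModP Λ X := lim
    have hexL : (ShortComplex.mk (L.map (kernel.ι ψ)) (L.map ψ) (by rw [← L.map_comp, kernel.condition, L.map_zero])).Exact :=
      ((ShortComplex.exact_of_f_is_kernel (ShortComplex.mk _ _ (kernel.condition ψ)) (kernelIsKernel ψ)).map_of_mono_of_preservesKernel
        L inferInstance inferInstance)
    haveI : Mono (L.map φ) := by
      rw [← kernel.lift_ι ψ φ hφψ0, L.map_comp]
      haveI : IsIso (L.map (kernel.lift ψ φ hφψ0)) := ‹IsIso (limMap e)›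
      infer_instance
    let l₁ := limit.lift Q₁ (Cone.mk S.X₁ p₁)
    let l₂ := limit.lift Q₂ (Cone.mk S.X₂ p₂)
    let l₃ := limit.lift Q₃ (Cone.mk S.X₃ p₃)
    have c₁ : l₁ ≫ L.map φ = S.f ≫ l₂ := limit.hom_ext fun i => by
      simp only [L, lim_map, Category.assoc, limMap_π, limit.lift_π_assoc, limit.lift_π, l₁, l₂]
      exact NatTrans.congr_app hφ i
    have c₂ : l₂ ≫ L.map ψ = S.g ≫ l₃ := limit.hom_ext fun i => by
      simp only [L, lim_map, Category.assoc, limMap_π, limit.lift_π_assoc, limit.lift_π, l₂, l₃]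
      exact NatTrans.congr_app hψ i
    have e₁ : ∀ x, ap (L.map φ) (ap l₁ x) = ap l₂ (ap S.f x) := fun x =>
      (ap_comp l₁ (L.map φ) x).symm.trans ((congrArg (fun t => ap t x) c₁).trans (ap_comp S.f l₂ x))
    have e₂ : ∀ x, ap (L.map ψ) (ap l₂ x) = ap l₃ (ap S.g x) := fun x =>
      (ap_comp l₂ (L.map ψ) x).symm.trans ((congrArg (fun t => ap t x) c₂).trans (ap_comp S.g l₃ x))
    haveI : Mono l₂ := (mono_iff _).2 <| (injective_iff_map_eq_zero _).2 fun x hx => by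
      have h0 : ap S.g x = 0 := inj l₃ (by rw [← e₂, hx, map_zero, map_zero])
      obtain ⟨b, rfl⟩ := (exact_iff S).1 hS.exact x h0
      rw [← e₁] at hx
      rw [inj l₁ (inj (L.map φ) (hx.trans (map_zero _).symm) |>.trans (map_zero _).symm), map_zero]
    haveI : Epi l₂ := (epi_iff _).2 fun y => by
      obtain ⟨t, ht⟩ := surj l₃ (ap (L.map ψ) y)
      obtain ⟨x, rfl⟩ := surj S.g t
      obtain ⟨z, hz⟩ := (exact_iff _).1 hexL (y - ap l₂ x) (by
        show ap (L.map ψ) _ = 0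
        rw [map_sub, e₂, ht, sub_self])
      haveI : IsIso (L.map (kernel.lift ψ φ hφψ0)) := ‹IsIso (limMap e)›
      obtain ⟨z', rfl⟩ := surj (L.map (kernel.lift ψ φ hφψ0)) z
      obtain ⟨w, rfl⟩ := surj l₁ z'
      refine ⟨x + ap S.f w, ?_⟩
      change ap (L.map (kernel.ι ψ)) _ = _ at hz
      rw [← ap_comp, ← L.map_comp, kernel.lift_ι, e₁] at hz
      rw [map_add, hz, add_sub_cancel]
    exact isIso_of_mono_of_epi l₂

end Groth.Agent.AdicPLib
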