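import Groth.Agent.ARConsLib.Local
import Groth.Agent.EpsLib.ModImage

/-! Mittag-Leffler for pro-étale pullbacks of systems of locally constant sheaves. -/

set_option autoImplicit false
set_option linter.unusedSectionVars false
set_option linter.style.haveILetI false
set_option backward.isDefEq.respectTransparency false
set_option backward.isDefEq.respectTransparency.types false
set_option synthInstance.maxHeartbeats 400000
set_option maxHeartbeats 1000000

universe u

open CategoryTheory CategoryTheory.Limits AlgebraicGeometry Opposite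

namespace Groth.Agent.AdicPLib

open Groth.Agent.EtShLib ARLib

variable {Λ : Type (u + 1)} [CommRing Λ] {X : Scheme.{u}}

theorem isArtinianRing_quotient_pow [IsNoetherianRing Λ] (I : Ideal Λ) [IsArtinianRing (Λ ⧸ I)] (k : ℕ) :
    IsArtinianRing (Λ ⧸ I ^ k) := by
  rw [isArtinianRing_iff_krullDimLE_zero]
  refine Ring.krullDimLE_zero_iff.2 fun P hP => ?_
  haveI := hP
  have hle : I ≤ P.comap (Ideal.Quotient.mk (I ^ k)) := fun a ha => by
    refine (Ideal.IsPrime.mem_of_pow_mem inferInstance k ?_)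
    rw [Ideal.mem_comap, Ideal.Quotient.eq_zero_iff_mem.2 (Ideal.pow_mem_pow ha k)]
    exact zero_mem _
  haveI : (P.comap (Ideal.Quotient.mk (I ^ k))).IsMaximal := by
    have hp : ((P.comap (Ideal.Quotient.mk (I ^ k))).map (Ideal.Quotient.mk I)).IsPrime :=
      Ideal.map_isPrime_of_surjective Ideal.Quotient.mk_surjective (by rwa [Ideal.mk_ker])
    haveI := hp
    have hm := IsArtinianRing.isMaximal_of_isPrime ((P.comap (Ideal.Quotient.mk (I ^ k))).map (Ideal.Quotient.mk I))
    have := Ideal.comap_isMaximal_of_surjective (Ideal.Quotient.mk I) Ideal.Quotient.mk_surjective (K := _) (H := hm)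
    rwa [Ideal.comap_map_of_surjective _ Ideal.Quotient.mk_surjective, ← RingHom.ker_eq_comap_bot, Ideal.mk_ker,
      sup_eq_left.2 hle] at this
  have h := Ideal.map_eq_top_or_isMaximal_of_surjective (Ideal.Quotient.mk (I ^ k)) Ideal.Quotient.mk_surjective this
  rw [Ideal.map_comap_of_surjective _ Ideal.Quotient.mk_surjective] at h
  exact h.resolve_left hP.ne_top

theorem isArtinian_of_killed [IsNoetherianRing Λ] {M : Type (u + 1)} [AddCommGroup M] [Module Λ M]
    [Module.Finite Λ M] (J : Ideal Λ) [IsArtinianRing (Λ ⧸ J)] (h : ∀ a ∈ J, ∀ m : M, a • m = 0) :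
    IsArtinian Λ M := by
  classical
  obtain ⟨k, f, hf⟩ := Module.Finite.exists_fin' Λ M
  haveI : IsArtinian Λ (Λ ⧸ J) := isArtinian_of_surjective_algebraMap (R := Λ ⧸ J) Ideal.Quotient.mk_surjective
  let g : (Fin k → Λ ⧸ J) →ₗ[Λ] M := ∑ i, (Submodule.liftQ J (LinearMap.toSpanSingleton Λ M (f (Pi.single i 1)))
    (fun a ha => by simp [h a ha])).comp (LinearMap.proj i)
  refine isArtinian_of_surjective _ g fun m => ?_
  obtain ⟨x, rfl⟩ := hf m
  refine ⟨fun i => Submodule.Quotient.mk (x i), ?_⟩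
  simp only [g, LinearMap.coe_sum, Finset.sum_apply, LinearMap.comp_apply, LinearMap.proj_apply,
    Submodule.liftQ_apply, LinearMap.toSpanSingleton_apply]
  conv_rhs => rw [pi_eq_sum_univ' x, map_sum]
  simp

/-- Stalk systems of locally constant sheaves at specialising points agree. -/
theorem nonempty_stalk_iso_of_specializes {J : Type*} [Category J] (F : J ⥤ EtModW.Mod Λ X)
    (hF : ∀ j, EtModW.IsFTLocConst Λ (F.obj j)) {Ω₁ Ω₂ : Type u} [Field Ω₁] [IsSepClosed Ω₁] [Field Ω₂]
    [IsSepClosed Ω₂] (a : Spec (CommRingCat.of Ω₁) ⟶ X) (b : Spec (CommRingCat.of Ω₂) ⟶ X)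
    (h : b.base default ⤳ a.base default) :
    Nonempty (F ⋙ EtModW.stalk Λ a ≅ F ⋙ EtModW.stalk Λ b) := by
  obtain ⟨φ⟩ := exists_spec_arrow' a b h
  let t : F ⋙ EtModW.stalk Λ a ⟶ F ⋙ EtModW.stalk Λ b :=
    Functor.whiskerLeft F (GrothendieckTopology.Point.Hom.sheafFiber (A := ModuleCat.{u + 1} Λ) φ)
  haveI : ∀ n, IsIso (t.app n) := fun n => by
    obtain ⟨V, y, M, η, hy, -, hη⟩ := (isFTLC_iff _).1 (hF n) (a.base default)
    obtain ⟨w, -⟩ := exists_fib a V y hy
    exact isIso_spec_of_isCst hη φ w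
  haveI : IsIso t := NatIso.isIso_of_isIso_app t
  exact ⟨asIso t⟩

variable [IsNoetherianRing Λ] [IsNoetherian X]

theorem exists_stable_stalks (I : Ideal Λ) [IsArtinianRing (Λ ⧸ I)] (F : ARSys.PS (EtModW.Mod Λ X))
    (hk : ARSys.TermKilled I F) (hF : ∀ n : ℕ, EtModW.IsFTLocConst Λ (F.obj (op n))) (n : ℕ) :
    ∃ r, ∀ s, r ≤ s → ∀ (Ω : Type u) [Field Ω] [IsSepClosed Ω] (ξ : Spec (CommRingCat.of Ω) ⟶ X)
      (x : (EtModW.stalk Λ ξ).obj (F.obj (op (n + r)))), ∃ y,
        (EtModW.stalk Λ ξ).map (ARSys.shiftMap F s n) y = (EtModW.stalk Λ ξ).map (ARSys.shiftMap F r n) x := by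
  classical
  choose Ω iF iS a ha using fun c : irreducibleComponents X => exists_geometric_pt (genericPoints.ofComponent c).1
  have hc : ∀ c, ∃ r, ∀ s, r ≤ s → ∀ x, ∃ y,
      (@EtModW.stalk Λ _ X _ (iF c) (iS c) (a c)).map (ARSys.shiftMap F s n) y =
        (@EtModW.stalk Λ _ X _ (iF c) (iS c) (a c)).map (ARSys.shiftMap F r n) x := fun c => by
    letI := iF c
    haveI := iS c
    let S := EtModW.stalk Λ (a c)
    obtain ⟨V, y, M, η, hy, hM, hη⟩ := (isFTLC_iff _).1 (hF n) ((a c).base default)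
    obtain ⟨w, -⟩ := exists_fib (a c) V y hy
    haveI := hη _ (a c) w
    haveI : Module.Finite Λ M := hM
    haveI : Module.Finite Λ (S.obj (F.obj (op n))) :=
      Module.Finite.equiv (asIso (η ≫ germ (a c) _ V w)).toLinearEquiv
    haveI := isArtinianRing_quotient_pow I (n + 1)
    haveI : IsArtinian Λ (S.obj (F.obj (op n))) :=
      isArtinian_of_killed (I ^ (n + 1)) fun t ht m => smul_stalk_eq_zero (a c) (hk n) ht m
    let R : ℕ →o (Submodule Λ (S.obj (F.obj (op n))))ᵒᵈ :=
      ⟨fun s => LinearMap.range (S.map (ARSys.shiftMap F s n)).hom, fun s t hst => by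
        rintro _ ⟨x, rfl⟩
        refine ⟨S.map (ARSys.tr F (Nat.add_le_add_left hst n)) x, ?_⟩
        exact ((ConcreteCategory.congr_hom (((congrArg S.map (show ARSys.shiftMap F t n =
          ARSys.tr F (Nat.add_le_add_left hst n) ≫ ARSys.shiftMap F s n from F.map_comp _ _))).trans
            (S.map_comp _ _)) x).trans (ConcreteCategory.comp_apply _ _ x)).symm⟩
    obtain ⟨r, hr⟩ := IsArtinian.monotone_stabilizes R
    exact ⟨r, fun s hs x => (hr s hs).ge ⟨x, rfl⟩⟩
  choose r hr using hc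
  haveI : Finite (irreducibleComponents X) :=
    TopologicalSpace.NoetherianSpace.finite_irreducibleComponents.to_subtype
  haveI := Fintype.ofFinite (irreducibleComponents X)
  refine ⟨Finset.univ.sup r, fun s hs Ω' _ _ ξ x => ?_⟩
  let c : irreducibleComponents X := ⟨irreducibleComponent (ξ.base default),
    irreducibleComponent_mem_irreducibleComponents _⟩
  letI := iF c
  haveI := iS c
  have hspec : (a c).base default ⤳ ξ.base default := by
    rw [ha c]
    exact (genericPoints.isGenericPoint_ofComponent c).specializes mem_irreducibleComponent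
  obtain ⟨e⟩ := nonempty_stalk_iso_of_specializes F (fun j => hF j.unop) ξ (a c) hspec
  have hrc : r c ≤ Finset.univ.sup r := Finset.le_sup (Finset.mem_univ c)
  obtain ⟨y, hy⟩ := hr c s (hrc.trans hs)
    ((EtModW.stalk Λ (a c)).map (ARSys.tr F (Nat.add_le_add_left hrc n)) (e.hom.app _ x))
  have h1 : ∀ {p q : ℕ} (h : p ≤ q) (z : (EtModW.stalk Λ (a c)).obj (F.obj (op q))),
      (EtModW.stalk Λ ξ).map (ARSys.tr F h) (e.inv.app (op q) z) =
        e.inv.app (op p) ((EtModW.stalk Λ (a c)).map (ARSys.tr F h) z) := fun {p q} h z =>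
    (ConcreteCategory.congr_hom (e.inv.naturality (homOfLE h).op) z).symm
  refine ⟨e.inv.app (op (n + s)) y, (h1 (Nat.le_add_right n s) y).trans ?_⟩
  refine (congrArg (e.inv.app (op n)) hy).trans ?_
  refine (congrArg (e.inv.app (op n)) ((ConcreteCategory.comp_apply _ _ _).symm.trans (ConcreteCategory.congr_hom
    (((EtModW.stalk Λ (a c)).map_comp _ _).symm.trans (congrArg (EtModW.stalk Λ (a c)).map
      (show ARSys.tr F (Nat.add_le_add_left hrc n) ≫ ARSys.shiftMap F (r c) n =
        ARSys.shiftMap F (Finset.univ.sup r) n from (F.map_comp _ _).symm))) _))).trans ?_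
  exact (h1 (Nat.le_add_right n _) _).symm.trans
    (congrArg ((EtModW.stalk Λ ξ).map _) (ConcreteCategory.congr_hom (e.hom_inv_id_app _) x))

theorem isML_eps [ProEtS.EpsCont X] (I : Ideal Λ) [IsArtinianRing (Λ ⧸ I)] (F : ARSys.PS (EtModW.Mod Λ X))
    (hk : ARSys.TermKilled I F) (hF : ∀ n : ℕ, EtModW.IsFTLocConst Λ (F.obj (op n))) :
    ARSys.IsML (F ⋙ EtModW.epsPullMod Λ X) := by
  intro n
  obtain ⟨r, hr⟩ := exists_stable_stalks I F hk hF n
  haveI := (Groth.Agent.EpsLib.epsPullMod_exact Λ X).1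
  haveI := (Groth.Agent.EpsLib.epsPullMod_exact Λ X).2
  let L := EtModW.epsPullMod Λ X
  haveI : L.Additive := Functor.additive_of_preserves_binary_products _
  refine ⟨r, fun s hs => eq_of_rg ?_⟩
  rw [rg_image, rg_image]
  refine Set.Subset.antisymm ?_ ?_
  · rintro _ ⟨x, rfl⟩
    exact ⟨res (F ⋙ L) (Nat.add_le_add_left hs n) x, by rw [res_shiftMap, res_shiftMap, res_res]⟩
  · rintro _ ⟨x, rfl⟩
    have hf : ARSys.shiftMap F r n ≫ cokernel.π (ARSys.shiftMap F s n) = 0 :=
      ARConsLib.eq_zero_of_stalks _ fun Ω _ _ ξ => ModuleCat.hom_ext (LinearMap.ext fun z => by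
        obtain ⟨y, hy⟩ := hr s hs Ω ξ z
        show (EtModW.stalk Λ ξ).map _ z = 0
        rw [Functor.map_comp, ConcreteCategory.comp_apply, ← hy, ← ConcreteCategory.comp_apply, ← Functor.map_comp,
          cokernel.condition, Functor.map_zero]
        rfl)
    refine map_cokernel_exact L (ARSys.shiftMap F s n) _ ?_
    show ap _ (ap (L.map (ARSys.shiftMap F r n)) x) = 0
    rw [← ap_comp, ← L.map_comp, hf, L.map_zero, ap_zero]

end Groth.Agent.AdicPLib
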